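import Mathlib
import Cfsg.Agent.Lib.LieModel.Fields
import Cfsg.Agent.Lib.LieModel.O73.P.Main
import Cfsg.Agent.S0292
import Cfsg.Agent.Lib.Classical.SmallIso3

/-! `Cfsg.POmega F (Cfsg.quadFormOdd 3 F)` as a permutation group on 351 points (generated) -/

set_option autoImplicit false
set_option maxRecDepth 100000
set_option Elab.async false

namespace CfsgLib.LieModel.O73

open CfsgLib.Comput CfsgLib.Classical CfsgLib.Recog Matrix

/-- the coding of vectors -/
abbrev C : Cd (ZMod 3) (Unit ⊕ (Fin 3 ⊕ Fin 3)) := cd3 7 (oddIdx 3)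

theorem good : C.Good := cd3_good ⟨by decide +kernel, by decide +kernel⟩

/-- the table of points -/
noncomputable def T : ℕ := 0x1aaa6aa5aa46a61a926a45a866a15a806999a656981a5a6965a546921a426905a286889a216859a156841a0a6825a0466a19a6669599466499916629989660196a65a59606561956655594465099416491922648591a64659106421906641589a626589662558926245888621188061a1864618184a61258466115842610582a60a58266095822608581860518105aa16a25a8569a5a656945a196855a0166a59a5664595965559416485909641589962558816185849611582960958115a456895a15661596565558a562558055a1566559555a55655505511542550552a54a552054515125445508541950552a94a952994a552894a152214845201458515145051294495119445510944150a1424508141a5065416505541250452a64a952a04a592954a412864a1528049a1262498525849492514921242490522a48a52244869219485120a482520446a91a9468119a466519046291894601164458916145511524545144450914144a112644951184459115442110644150a842910a042610944241088421108041a9069419906541890614169059415905541490514129049411904541090411a986a51a806981a486911a286891a1066619946601960652194464a1924644189862518806181848611182860918105aa16a45a016505921644588161858515a8569158055415485511520546151452a14a452014505121444508141850512a04a4128049a126449612544921244468119046011684591158455114845110a0424108041a1064416105441210441a806981a506601960654188061818505a016605941580558155052014605141280498125046011604541080418105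

theorem inj : ProjInj 351 (C.pt T) := Cd.projInj good (allLt_sound (by decide +kernel))

/-- the scalars -/
noncomputable def LS : List (List ℕ) := [[0x10000000000000000000000000001, 0x10000000000000000000000010000, 0x10000000000000000000100000000, 0x10000000000000001000000000000, 0x10000000000010000000000000000, 0x10000000100000000000000000000, 0x10001000000000000000000000000], [0x20000000000000000000000000002, 0x20000000000000000000000020000, 0x20000000000000000000200000000, 0x20000000000000002000000000000, 0x20000000000020000000000000000, 0x20000000200000000000000000000, 0x20002000000000000000000000000]]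

theorem scal : C.Scal LS :=
  Cd.Scal.cons (c := C.fK 1) ((Cd.codes_of_entries good (M := [0x1, 0x4, 0x10, 0x40, 0x100, 0x400, 0x1000]) (by decide +kernel)).cols (by decide +kernel)) (
  Cd.Scal.cons (c := C.fK 2) ((Cd.codes_of_entries good (M := [0x2, 0x8, 0x20, 0x80, 0x200, 0x800, 0x2000]) (by decide +kernel)).cols (by decide +kernel)) (
  Cd.Scal.nil))

noncomputable def A0 : Matrix (Unit ⊕ (Fin 3 ⊕ Fin 3)) (Unit ⊕ (Fin 3 ⊕ Fin 3)) (ZMod 3) := C.mat oddIx [0x146a, 0x1194, 0x1a94, 0x2441, 0x2225, 0x685, 0x68]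
noncomputable def X0 : Matrix (Unit ⊕ (Fin 3 ⊕ Fin 3)) (Unit ⊕ (Fin 3 ⊕ Fin 3)) (ZMod 3) := C.mat oddIx [0x5a8, 0x1881, 0x25a9, 0x46a, 0xa85, 0x61a, 0x204a]
noncomputable def Y0 : Matrix (Unit ⊕ (Fin 3 ⊕ Fin 3)) (Unit ⊕ (Fin 3 ⊕ Fin 3)) (ZMod 3) := C.mat oddIx [0x2545, 0x2010, 0x1a99, 0x899, 0x2188, 0x1560, 0x1014]
noncomputable def X0' : Matrix (Unit ⊕ (Fin 3 ⊕ Fin 3)) (Unit ⊕ (Fin 3 ⊕ Fin 3)) (ZMod 3) := C.mat oddIx [0x1a58, 0x42a, 0x161a, 0x980, 0x28a5, 0x2811, 0x1a49]
noncomputable def Y0' : Matrix (Unit ⊕ (Fin 3 ⊕ Fin 3)) (Unit ⊕ (Fin 3 ⊕ Fin 3)) (ZMod 3) := C.mat oddIx [0x2801, 0x816, 0x2812, 0x659, 0x284a, 0x1560, 0x281a]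
noncomputable def g0 : Cfsg.Omega (ZMod 3) (Cfsg.quadFormOdd 3 (ZMod 3)) :=
  omegaOf (isoOf (odd_eq 3) X0 X0' (by decide +kernel)) (isoOf (odd_eq 3) Y0 Y0' (by decide +kernel))
theorem g0_val : omegaMat (Cfsg.quadFormOdd 3 (ZMod 3)) g0 = A0 :=
  omegaMat_omegaOf (show A0 * (Y0 * X0) = X0 * Y0 by decide +kernel)

theorem c0 : Compat (C.pt T) A0 (permG 351 P.W 0) :=
  Cd.compat good (OK_nth P.W_ok 0) (L := [0x90001000100000001000200020002, 0x60001000000010002000100010000, 0x90001000200020002000100010000, 0x50002000100000001000000000001, 0x80002000000020000000200010001, 0x70000000100020002000000010001, 0x50000000000000001000200020000])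
    ((Cd.codes_of_entries good (M := [0x146a, 0x1194, 0x1a94, 0x2441, 0x2225, 0x685, 0x68]) (by decide +kernel)).cols (by decide +kernel)) scal (allLt_sound (by decide +kernel))

noncomputable def A1 : Matrix (Unit ⊕ (Fin 3 ⊕ Fin 3)) (Unit ⊕ (Fin 3 ⊕ Fin 3)) (ZMod 3) := C.mat oddIx [0x485, 0x15a6, 0x2655, 0x2a11, 0x24a0, 0x46a, 0x2041]
noncomputable def X1 : Matrix (Unit ⊕ (Fin 3 ⊕ Fin 3)) (Unit ⊕ (Fin 3 ⊕ Fin 3)) (ZMod 3) := C.mat oddIx [0x1a1, 0x250a, 0x2400, 0xa58, 0x2804, 0x1865, 0x25aa]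
noncomputable def Y1 : Matrix (Unit ⊕ (Fin 3 ⊕ Fin 3)) (Unit ⊕ (Fin 3 ⊕ Fin 3)) (ZMod 3) := C.mat oddIx [0x101, 0x290a, 0x4aa, 0x181a, 0x260, 0x120, 0x2a0]
noncomputable def X1' : Matrix (Unit ⊕ (Fin 3 ⊕ Fin 3)) (Unit ⊕ (Fin 3 ⊕ Fin 3)) (ZMod 3) := C.mat oddIx [0x161, 0x2142, 0x2568, 0xa98, 0x2294, 0x10a1, 0x1091]
noncomputable def Y1' : Matrix (Unit ⊕ (Fin 3 ⊕ Fin 3)) (Unit ⊕ (Fin 3 ⊕ Fin 3)) (ZMod 3) := C.mat oddIx [0x1501, 0x19a, 0x2600, 0x1200, 0x2a00, 0x18a8, 0x884]
noncomputable def g1 : Cfsg.Omega (ZMod 3) (Cfsg.quadFormOdd 3 (ZMod 3)) :=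
  omegaOf (isoOf (odd_eq 3) X1 X1' (by decide +kernel)) (isoOf (odd_eq 3) Y1 Y1' (by decide +kernel))
theorem g1_val : omegaMat (Cfsg.quadFormOdd 3 (ZMod 3)) g1 = A1 :=
  omegaMat_omegaOf (show A1 * (Y1 * X1) = X1 * Y1 by decide +kernel)

theorem c1 : Compat (C.pt T) A1 (permG 351 P.W 2) :=
  Cd.compat good (OK_nth P.W_ok 2) (L := [0x50000000100000002000000010001, 0xa0001000100010002000200010002, 0x90002000100020001000100010001, 0x80002000200020000000100000001, 0x70002000100000002000200000000, 0x80000000100000001000200020002, 0x40002000000000001000000000001])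
    ((Cd.codes_of_entries good (M := [0x485, 0x15a6, 0x2655, 0x2a11, 0x24a0, 0x46a, 0x2041]) (by decide +kernel)).cols (by decide +kernel)) scal (allLt_sound (by decide +kernel))

/-- the generators -/
noncomputable def g (m : ℕ) : Cfsg.Omega (ZMod 3) (Cfsg.quadFormOdd 3 (ZMod 3)) :=
  if m = 0 then g0 else g1

theorem hyp : ∀ m ∈ [0, 2], m < 255 ∧ Compat (C.pt T) (omegaMat (Cfsg.quadFormOdd 3 (ZMod 3)) (g m)) (permG 351 P.W m) := by
  simp only [List.forall_mem_cons]
  exact ⟨⟨by norm_num, (congrArg (fun A => Compat (C.pt T) A _) g0_val).mpr c0⟩, ⟨by norm_num, (congrArg (fun A => Compat (C.pt T) A _) g1_val).mpr c1⟩, List.forall_mem_nil _⟩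

/-- the permutation group -/
noncomputable abbrev PG : Subgroup (Equiv.Perm (Fin 351)) := cl (permG 351 P.W) P.top

theorem card_PG : Nat.card PG = 4585351680 := P.card_perm

theorem card_G : Nat.card (Cfsg.POmega (ZMod 3) (Cfsg.quadFormOdd 3 (ZMod 3))) = 4585351680 := by
  have := Cfsg.Agent.S0292.result (F := ZMod 3) (q := 3) (ZMod.card 3) (by decide) 3 le_rfl
  simp only [Finset.prod_range_succ, Finset.prod_range_zero] at this
  norm_num at this
  omega

theorem center_PG : Subgroup.center PG = ⊥ :=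
  center_eq_bot_of_chk P.W_ok (by norm_num) (P.inA_top P.E) (hs := P.L0.hs) (a := 0) (r := 8) (by decide +kernel)

theorem exists_iso : ∃ e : (Cfsg.POmega (ZMod 3) (Cfsg.quadFormOdd 3 (ZMod 3))) ≃* PG, ∀ x ∈ cl (fun m => (g m, permG 351 P.W m)) P.top,
    (e (QuotientGroup.mk x.1) : Equiv.Perm (Fin 351)) = x.2 := by
  have : Finite (Cfsg.POmega (ZMod 3) (Cfsg.quadFormOdd 3 (ZMod 3))) := Nat.finite_of_card_ne_zero (by rw [card_G]; norm_num)
  exact link_quot (omegaMat (Cfsg.quadFormOdd 3 (ZMod 3))) inj hyp rfl center_PG (card_G.trans card_PG.symm).le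

theorem iso {F : Type*} [Field F] [Fintype F] (hF : Fintype.card F = 3) :
    Nonempty ((Cfsg.POmega F (Cfsg.quadFormOdd 3 F)) ≃* PG) := by
  obtain ⟨f, -⟩ := exists_iso
  let e : F ≃+* (ZMod 3) := FiniteField.ringEquivOfCardEq (hF.trans (ZMod.card 3).symm)
  exact ⟨(pomegaMapEquiv e _ _ (quadFormOdd_map e 3)).trans f⟩

end CfsgLib.LieModel.O73
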